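import Groth.Prelude.Def_W4c2gaugesfzipsQuiet
import Mathlib.Algebra.Category.Ring.Constructions

/-!
# Root towers: hom formulation, transfer along isomorphisms, lifting along surjections
-/

set_option autoImplicit false

namespace Groth.Agent.Lib.Helper7.QuietRing

open CategoryTheory Limits Polynomial Quiet

universe u

/-- Hom version of `Quiet.IsRootTower`. -/
def IsRootTowerHom (p n : ℕ) {A B : Type u} [CommRing A] [CommRing B] (φ : A →+* B) : Prop :=
  letI := φ.toAlgebra
  IsRootTower p n A B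

variable {p : ℕ}

theorem isRootTowerHom_zero_iff {A B : Type u} [CommRing A] [CommRing B] (φ : A →+* B) :
    IsRootTowerHom p 0 φ ↔ Function.Bijective φ := by
  letI := φ.toAlgebra
  constructor
  · rintro ⟨e⟩
    have h : (e.symm : A → B) = φ := by
      funext a
      exact e.symm.commutes a
    rw [← h]
    exact e.symm.bijective
  · intro h
    exact ⟨(AlgEquiv.ofRingEquiv (f := RingEquiv.ofBijective φ h) (fun a => rfl)).symm⟩

theorem isRootTowerHom_succ_iff {n : ℕ} {A B : Type u} [CommRing A] [CommRing B] (φ : A →+* B) :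
    IsRootTowerHom p (n + 1) φ ↔
      ∃ (a : A) (χ : RootRing p A a →+* B), χ.comp (AdjoinRoot.of _) = φ ∧
        IsRootTowerHom p n χ := by
  letI := φ.toAlgebra
  constructor
  · rintro ⟨a, alg, st, tw⟩
    refine ⟨a, algebraMap _ _, ?_, ?_⟩
    · ext x
      exact (IsScalarTower.algebraMap_apply A (RootRing p A a) B x).symm
    · have : (algebraMap (RootRing p A a) B).toAlgebra = alg :=
        Algebra.algebra_ext _ _ (fun _ => rfl)
      unfold IsRootTowerHom
      rw [this]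
      exact tw
  · rintro ⟨a, χ, hχ, tw⟩
    refine ⟨a, χ.toAlgebra, ?_, tw⟩
    letI := χ.toAlgebra
    exact IsScalarTower.of_algebraMap_eq (fun x => by subst hχ; rfl)

/-- Post-composing a root tower with an isomorphism gives a root tower. -/
theorem IsRootTowerHom.comp_bijective : ∀ (n : ℕ) {A B B' : Type u} [CommRing A] [CommRing B]
    [CommRing B'] (φ : A →+* B) (ε : B →+* B'), Function.Bijective ε → IsRootTowerHom p n φ →
    IsRootTowerHom p n (ε.comp φ)
  | 0, A, B, B', _, _, _, φ, ε, hε, h => by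
    rw [isRootTowerHom_zero_iff] at h ⊢
    exact hε.comp h
  | n + 1, A, B, B', _, _, _, φ, ε, hε, h => by
    rw [isRootTowerHom_succ_iff] at h ⊢
    obtain ⟨a, χ, rfl, tw⟩ := h
    exact ⟨a, ε.comp χ, by rw [RingHom.comp_assoc], IsRootTowerHom.comp_bijective n χ ε hε tw⟩

/-- Transfer of root towers along isomorphisms of pairs. -/
theorem IsRootTowerHom.of_equiv : ∀ (n : ℕ) {A B A' B' : Type u} [CommRing A] [CommRing B]
    [CommRing A'] [CommRing B'] (φ : A →+* B) (φ' : A' →+* B') (e₁ : A ≃+* A') (e₂ : B ≃+* B'),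
    (∀ x, φ' (e₁ x) = e₂ (φ x)) → IsRootTowerHom p n φ → IsRootTowerHom p n φ'
  | 0, A, B, A', B', _, _, _, _, φ, φ', e₁, e₂, h, hφ => by
    rw [isRootTowerHom_zero_iff] at hφ ⊢
    have : (φ' : A' → B') = e₂ ∘ φ ∘ e₁.symm := by
      funext x
      simp [← h]
    rw [this]
    exact e₂.bijective.comp (hφ.comp e₁.symm.bijective)
  | n + 1, A, B, A', B', _, _, _, _, φ, φ', e₁, e₂, h, hφ => by
    rw [isRootTowerHom_succ_iff] at hφ ⊢
    obtain ⟨a, χ, rfl, tw⟩ := hφ
    let ε : RootRing p A a ≃+* RootRing p A' (e₁ a) :=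
      AdjoinRoot.mapRingEquiv e₁ _ _ (by simp [Polynomial.map_sub, Polynomial.map_pow])
    refine ⟨e₁ a, (e₂.toRingHom.comp χ).comp ε.symm.toRingHom, ?_, ?_⟩
    · ext x
      obtain ⟨x, rfl⟩ := e₁.surjective x
      have : ε.symm (AdjoinRoot.of _ (e₁ x)) = AdjoinRoot.of _ x := by
        rw [RingEquiv.symm_apply_eq]
        simp [ε]
      simp [this, h]
    · refine IsRootTowerHom.of_equiv n χ _ ε e₂ (fun x => ?_) tw
      simp

theorem isPushout_rootRing {Ã A : Type u} [CommRing Ã] [CommRing A] (π : Ã →+* A) (ã : Ã) :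
    IsPushout (CommRingCat.ofHom π)
      (CommRingCat.ofHom (AdjoinRoot.of (X ^ p - C ã : Ã[X])))
      (CommRingCat.ofHom (AdjoinRoot.of (X ^ p - C (π ã) : A[X])))
      (CommRingCat.ofHom (AdjoinRoot.map π (X ^ p - C ã : Ã[X]) (X ^ p - C (π ã) : A[X])
        (by simp))) := by
  have hroot : (AdjoinRoot.root (X ^ p - C ã : Ã[X])) ^ p =
      AdjoinRoot.of (X ^ p - C ã : Ã[X]) ã := by
    have := AdjoinRoot.eval₂_root (X ^ p - C ã : Ã[X])
    simpa [sub_eq_zero] using this
  have hdvd : (X ^ p - C (π ã) : A[X]) ∣ (X ^ p - C ã : Ã[X]).map π := by simp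
  refine ⟨⟨?_⟩, ⟨PushoutCocone.isColimitAux' _ (fun s => ?_)⟩⟩
  · ext x
    simp
  · have hs : ∀ x : Ã, s.inl.hom (π x) = s.inr.hom (AdjoinRoot.of (X ^ p - C ã : Ã[X]) x) :=
      fun x => congr($(s.condition).hom x)
    have h0 : (X ^ p - C (π ã) : A[X]).eval₂ s.inl.hom
        (s.inr.hom (AdjoinRoot.root (X ^ p - C ã : Ã[X]))) = 0 := by
      simp only [eval₂_sub, eval₂_pow, eval₂_X, eval₂_C]
      rw [← map_pow, hroot, hs, sub_self]
    refine ⟨CommRingCat.ofHom (AdjoinRoot.lift s.inl.hom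
      (s.inr.hom (AdjoinRoot.root (X ^ p - C ã : Ã[X]))) h0), ?_, ?_, ?_⟩
    · apply CommRingCat.hom_ext
      apply RingHom.ext
      intro x
      exact AdjoinRoot.lift_of h0
    · apply CommRingCat.hom_ext
      apply AdjoinRoot.ringHom_ext
      · apply RingHom.ext
        intro x
        show AdjoinRoot.lift _ _ h0 (AdjoinRoot.map π _ _ hdvd (AdjoinRoot.of _ x)) = _
        rw [AdjoinRoot.map_of, AdjoinRoot.lift_of, hs]
        rfl
      · show AdjoinRoot.lift _ _ h0 (AdjoinRoot.map π _ _ hdvd (AdjoinRoot.root _)) = _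
        rw [AdjoinRoot.map_root, AdjoinRoot.lift_root]
    · intro m h1 h2
      have h1' : ∀ x : A, m.hom (AdjoinRoot.of (X ^ p - C (π ã) : A[X]) x) = s.inl.hom x :=
        fun x => congr($(h1).hom x)
      have h2' : ∀ x : AdjoinRoot (X ^ p - C ã : Ã[X]),
          m.hom (AdjoinRoot.map π (X ^ p - C ã : Ã[X]) (X ^ p - C (π ã) : A[X]) hdvd x) =
            s.inr.hom x :=
        fun x => congr($(h2).hom x)
      apply CommRingCat.hom_ext
      apply AdjoinRoot.ringHom_ext
      · apply RingHom.ext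
        intro x
        exact (h1' x).trans (AdjoinRoot.lift_of h0).symm
      · have := h2' (AdjoinRoot.root _)
        rw [AdjoinRoot.map_root] at this
        exact this.trans (AdjoinRoot.lift_root h0).symm

theorem map_surjective {Ã A : Type u} [CommRing Ã] [CommRing A] (π : Ã →+* A)
    (hπ : Function.Surjective π) (ã : Ã) :
    Function.Surjective (AdjoinRoot.map π (X ^ p - C ã : Ã[X]) (X ^ p - C (π ã) : A[X])
        (by simp)) := by
  intro x
  induction x using AdjoinRoot.induction_on with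
  | ih q =>
    obtain ⟨q', rfl⟩ := Polynomial.map_surjective π hπ q
    refine ⟨AdjoinRoot.mk _ q', ?_⟩
    induction q' using Polynomial.induction_on' with
    | add a b ha hb => simp [ha, hb]
    | monomial n c =>
      rw [← C_mul_X_pow_eq_monomial]
      simp

/-- **Root towers lift along surjections**, as pushouts of commutative rings. -/
theorem exists_lift : ∀ (n : ℕ) {Ã A B : Type u} [CommRing Ã] [CommRing A] [CommRing B]
    (π : Ã →+* A) (φ : A →+* B), Function.Surjective π → IsRootTowerHom p n φ →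
    ∃ (B' : Type u) (_ : CommRing B') (φ' : Ã →+* B') (ψ : B' →+* B), IsRootTowerHom p n φ' ∧
      IsPushout (CommRingCat.ofHom π) (CommRingCat.ofHom φ') (CommRingCat.ofHom φ)
        (CommRingCat.ofHom ψ)
  | 0, Ã, A, B, _, _, _, π, φ, hπ, hφ => by
    rw [isRootTowerHom_zero_iff] at hφ
    refine ⟨Ã, inferInstance, RingHom.id _, φ.comp π,
      (isRootTowerHom_zero_iff _).2 Function.bijective_id, ?_⟩
    have : IsIso (CommRingCat.ofHom φ) :=
      (ConcreteCategory.isIso_iff_bijective _).2 hφ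
    have : IsIso (CommRingCat.ofHom (RingHom.id Ã)) := by
      change IsIso (𝟙 (CommRingCat.of Ã))
      infer_instance
    exact IsPushout.of_vert_isIso ⟨rfl⟩
  | n + 1, Ã, A, B, _, _, _, π, φ, hπ, hφ => by
    rw [isRootTowerHom_succ_iff] at hφ
    obtain ⟨a, χ, rfl, tw⟩ := hφ
    obtain ⟨ã, rfl⟩ := hπ a
    obtain ⟨B', _, φ', ψ, tw', hpo⟩ := exists_lift n _ χ (map_surjective (p := p) π hπ ã) tw
    refine ⟨B', inferInstance, φ'.comp (AdjoinRoot.of _), ψ,
      (isRootTowerHom_succ_iff _).2 ⟨ã, φ', rfl, tw'⟩, ?_⟩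
    exact (isPushout_rootRing π ã).paste_vert hpo

/-- Categorical form of `exists_lift`. -/
theorem exists_lift_cat (n : ℕ) {Ã A B : CommRingCat.{u}} (π : Ã ⟶ A) (φ : A ⟶ B)
    (hπ : Function.Surjective π.hom) (hφ : IsRootTowerHom p n φ.hom) :
    ∃ (B' : CommRingCat.{u}) (φ' : Ã ⟶ B') (ψ : B' ⟶ B), IsRootTowerHom p n φ'.hom ∧
      IsPushout π φ' φ ψ := by
  obtain ⟨B', _, φ', ψ, tw, hpo⟩ := exists_lift n π.hom φ.hom hπ hφ
  exact ⟨CommRingCat.of B', CommRingCat.ofHom φ', CommRingCat.ofHom ψ, tw, hpo⟩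

/-- **Root towers are stable under cobase change.** -/
theorem IsRootTowerHom.of_isPushout : ∀ (n : ℕ) {A A' B B' : CommRingCat.{u}} (φ : A ⟶ B)
    (π : A ⟶ A') (ψ : B ⟶ B') (φ' : A' ⟶ B'), IsPushout φ π ψ φ' →
    IsRootTowerHom p n φ.hom → IsRootTowerHom p n φ'.hom
  | 0, A, A', B, B', φ, π, ψ, φ', sq, h => by
    rw [isRootTowerHom_zero_iff] at h ⊢
    have : IsIso φ := (ConcreteCategory.isIso_iff_bijective _).2 h
    have : IsIso φ' := sq.isIso_inr_of_isIso
    exact (ConcreteCategory.isIso_iff_bijective φ').1 this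
  | n + 1, A, A', B, B', φ, π, ψ, φ', sq, h => by
    rw [isRootTowerHom_succ_iff] at h ⊢
    obtain ⟨a, χ, hχ, tw⟩ := h
    have hφ : φ = CommRingCat.ofHom (AdjoinRoot.of (X ^ p - C a : A[X])) ≫ CommRingCat.ofHom χ :=
      CommRingCat.hom_ext hχ.symm
    have sq1 := (isPushout_rootRing (p := p) π.hom a).flip
    have hw : π ≫ φ' = CommRingCat.ofHom (AdjoinRoot.of (X ^ p - C a : A[X])) ≫
        CommRingCat.ofHom χ ≫ ψ := by
      rw [← Category.assoc, ← hφ, sq.w]
    let χ' := sq1.desc (CommRingCat.ofHom χ ≫ ψ) φ' hw.symm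
    have h1 : CommRingCat.ofHom (AdjoinRoot.of (X ^ p - C (π.hom a) : A'[X])) ≫ χ' = φ' :=
      sq1.inr_desc _ _ _
    have h2 : CommRingCat.ofHom (AdjoinRoot.map π.hom (X ^ p - C a : A[X])
        (X ^ p - C (π.hom a) : A'[X]) (by simp)) ≫ χ' = CommRingCat.ofHom χ ≫ ψ :=
      sq1.inl_desc _ _ _
    have sq2 : IsPushout (CommRingCat.ofHom χ) (CommRingCat.ofHom (AdjoinRoot.map π.hom
        (X ^ p - C a : A[X]) (X ^ p - C (π.hom a) : A'[X]) (by simp))) ψ χ' := by
      refine IsPushout.of_left ?_ h2.symm sq1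
      rw [h1]
      exact hφ ▸ sq
    refine ⟨π.hom a, χ'.hom, ?_, IsRootTowerHom.of_isPushout n _ _ _ _ sq2 tw⟩
    exact congr($(h1).hom)

/-- Composition of root towers. -/
theorem IsRootTowerHom.comp : ∀ (n m : ℕ) {A B D : Type u} [CommRing A] [CommRing B] [CommRing D]
    (φ : A →+* B) (χ : B →+* D), IsRootTowerHom p n φ → IsRootTowerHom p m χ →
    IsRootTowerHom p (n + m) (χ.comp φ)
  | 0, m, A, B, D, _, _, _, φ, χ, hφ, hχ => by
    rw [isRootTowerHom_zero_iff] at hφ
    rw [Nat.zero_add]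
    refine IsRootTowerHom.of_equiv m χ (χ.comp φ) (RingEquiv.ofBijective φ hφ).symm
      (RingEquiv.refl D) (fun x => ?_) hχ
    have : φ ((RingEquiv.ofBijective φ hφ).symm x) = x :=
      (RingEquiv.ofBijective φ hφ).apply_symm_apply x
    simp [this]
  | n + 1, m, A, B, D, _, _, _, φ, χ, hφ, hχ => by
    rw [isRootTowerHom_succ_iff] at hφ
    obtain ⟨a, φ₁, rfl, tw⟩ := hφ
    rw [Nat.add_right_comm, isRootTowerHom_succ_iff]
    exact ⟨a, χ.comp φ₁, by rw [RingHom.comp_assoc], IsRootTowerHom.comp n m φ₁ χ tw hχ⟩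

end Groth.Agent.Lib.Helper7.QuietRing
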