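import Groth.Agent.Lib.Helper7.Quiet.Ring
import Mathlib.AlgebraicGeometry.Morphisms.Flat

/-!
# `p`-th root morphisms are stable under base change
-/

set_option autoImplicit false

namespace Groth.Agent.Lib.Helper7.QuietRing

open CategoryTheory Limits AlgebraicGeometry Quiet TopologicalSpace

universe u

variable {p : ℕ}

theorem isPthRoot_iff {Y X : Scheme.{u}} (f : Y ⟶ X) :
    IsPthRoot p f ↔ ∀ x : X, ∃ U : X.Opens, IsAffineOpen U ∧ x ∈ U ∧ IsAffineOpen (f ⁻¹ᵁ U) ∧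
      ∃ n : ℕ, IsRootTowerHom p n (f.app U).hom :=
  ⟨fun h x => by
    obtain ⟨U, hx, hU, n, tw⟩ := h x
    exact ⟨U.1, U.2, hx, hU, n, tw⟩,
  fun h x => by
    obtain ⟨U, hU, hx, hU', n, tw⟩ := h x
    exact ⟨⟨U, hU⟩, hx, hU', n, tw⟩⟩

/-- Base change of a root tower of sections. -/
theorem tower_of_isPullback {V V' Z Y : Scheme.{u}} {h' : V' ⟶ V} {r' : V' ⟶ Z} {r : V ⟶ Y}
    {h : Z ⟶ Y} (H : IsPullback h' r' r h) {U : Y.Opens} {U' : Z.Opens} (hU : IsAffineOpen U)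
    (hrU : IsAffineOpen (r ⁻¹ᵁ U)) (hU' : IsAffineOpen U') (hU'le : U' ≤ h ⁻¹ᵁ U) (n : ℕ)
    (tw : IsRootTowerHom p n (r.app U).hom) :
    IsAffineOpen (r' ⁻¹ᵁ U') ∧ IsRootTowerHom p n (r'.app U').hom := by
  have hUY : r' ⁻¹ᵁ U' = h' ⁻¹ᵁ (r ⁻¹ᵁ U) ⊓ r' ⁻¹ᵁ U' := by
    refine (inf_eq_right.2 ?_).symm
    rw [← Scheme.Hom.comp_preimage, H.w, Scheme.Hom.comp_preimage]
    exact Scheme.Hom.preimage_mono r' hU'le
  have hpb := Scheme.Hom.isPullback_resLE H hU'le (le_refl (r ⁻¹ᵁ U)) hUY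
  have : IsAffine (U : Scheme.{u}) := hU
  have : IsAffine (U' : Scheme.{u}) := hU'
  have : IsAffine ((r ⁻¹ᵁ U : V.Opens) : Scheme.{u}) := hrU
  have hUY' : IsAffineOpen (r' ⁻¹ᵁ U') := .of_isIso hpb.isoPullback.hom
  have hiso := isIso_pushoutSection_of_isAffineOpen H hU'le (le_refl (r ⁻¹ᵁ U)) hUY hU hU' hrU
  rw [isIso_pushoutSection_iff] at hiso
  refine ⟨hUY', ?_⟩
  have := IsRootTowerHom.of_isPushout n _ _ _ _ hiso (by rwa [← Scheme.Hom.app_eq_appLE])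
  rwa [← Scheme.Hom.app_eq_appLE] at this

/-- Restriction of a root tower of sections to a smaller affine open. -/
theorem tower_of_le {V Y : Scheme.{u}} (r : V ⟶ Y) {U U' : Y.Opens} (hU : IsAffineOpen U)
    (hrU : IsAffineOpen (r ⁻¹ᵁ U)) (hU' : IsAffineOpen U') (hle : U' ≤ U) (n : ℕ)
    (tw : IsRootTowerHom p n (r.app U).hom) :
    IsAffineOpen (r ⁻¹ᵁ U') ∧ IsRootTowerHom p n (r.app U').hom :=
  tower_of_isPullback (h' := 𝟙 V) (h := 𝟙 Y) (IsPullback.of_horiz_isIso ⟨by simp⟩) hU hrU hU' hle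
    n tw

/-- `p`-th root morphisms are stable under base change. -/
theorem IsPthRoot.of_isPullback {V V' Z Y : Scheme.{u}} {h' : V' ⟶ V} {r' : V' ⟶ Z} {r : V ⟶ Y}
    {h : Z ⟶ Y} (H : IsPullback h' r' r h) (hr : IsPthRoot p r) : IsPthRoot p r' := by
  rw [isPthRoot_iff] at hr ⊢
  intro z
  obtain ⟨U, hU, hzU, hrU, n, tw⟩ := hr (h z)
  obtain ⟨U', hU', hzU', hU'le⟩ :=
    Opens.isBasis_iff_nbhd.1 Z.isBasis_affineOpens (show z ∈ h ⁻¹ᵁ U from hzU)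
  replace hU' : IsAffineOpen U' := hU'
  obtain ⟨h1, h2⟩ := tower_of_isPullback H hU hrU hU' hU'le n tw
  exact ⟨U', hU', hzU', h1, n, h2⟩

/-- A morphism of affine schemes inducing a root tower on global sections is a `p`-th root
morphism. -/
theorem isPthRoot_of_isAffine {X Y : Scheme.{u}} [IsAffine X] [IsAffine Y] (f : X ⟶ Y)
    (n : ℕ) (h : IsRootTowerHom p n f.appTop.hom) : IsPthRoot p f := fun _ =>
  ⟨⟨⊤, isAffineOpen_top Y⟩, trivial, isAffineOpen_top X, n, h⟩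

theorem isRootTowerHom_of_iso {n : ℕ} {A B A' B' : CommRingCat.{u}} (φ : A ⟶ B) (φ' : A' ⟶ B')
    (e₁ : A ≅ A') (e₂ : B ≅ B') (h : e₁.hom ≫ φ' = φ ≫ e₂.hom)
    (hφ : IsRootTowerHom p n φ.hom) : IsRootTowerHom p n φ'.hom :=
  IsRootTowerHom.of_equiv n φ.hom φ'.hom e₁.commRingCatIsoToRingEquiv
    e₂.commRingCatIsoToRingEquiv (fun x => congr($(h).hom x)) hφ

/-- `Spec` of a root tower, precomposed with an isomorphism, is a `p`-th root morphism. -/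
theorem isPthRoot_iso_comp_SpecMap {n : ℕ} {A B : CommRingCat.{u}} (φ : A ⟶ B)
    (h : IsRootTowerHom p n φ.hom) {X : Scheme.{u}} (α : X ≅ Spec B) :
    IsPthRoot p (α.hom ≫ Spec.map φ) := by
  haveI : IsAffine X := .of_isIso α.hom
  haveI : IsIso (α.hom.appTop) := inferInstanceAs (IsIso (α.hom.app ⊤))
  refine isPthRoot_of_isAffine _ n ?_
  refine isRootTowerHom_of_iso φ _ (Scheme.ΓSpecIso A).symm
    ((Scheme.ΓSpecIso B).symm ≪≫ asIso (α.hom.appTop)) ?_ h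
  simp [Scheme.Hom.comp_appTop, Scheme.ΓSpecIso_inv_naturality_assoc]

end Groth.Agent.Lib.Helper7.QuietRing
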