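import Groth.Agent.Lib.Helper7.Quiet.Ring
import Groth.Agent.Lib.Helper16.RelFrob.Etale

/-!
# Étale algebras descend along root towers in characteristic `p`
-/

set_option autoImplicit false

namespace Groth.Agent.Lib.Helper7.QuietRing

open CategoryTheory Limits Polynomial Quiet FrobAlg TensorProduct

universe u

variable {p : ℕ}

/-- For an étale map `γ : R ⟶ C` in characteristic `p`, the Frobenius square is a pushout. -/
theorem isPushout_frobenius_of_etale [Fact p.Prime] {R C : CommRingCat.{u}} [CharP R p] [CharP C p]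
    (γ : R ⟶ C) (hγ : γ.hom.Etale) :
    IsPushout γ (CommRingCat.ofHom (frobenius R p)) (CommRingCat.ofHom (frobenius C p)) γ := by
  letI := γ.hom.toAlgebra
  haveI : Algebra.Etale R C := hγ
  have hbij := Groth.Agent.Lib.Helper16.RelFrob.bijective_of_etale p R C
  have h0 := CommRingCat.isPushout_tensorProduct R C (Twist p R)
  refine h0.of_iso (Iso.refl _) (Iso.refl _) (toTwist p R).symm.toCommRingCatIso
    (RingEquiv.ofBijective (relFrob p R C) hbij).toCommRingCatIso ?_ ?_ ?_ ?_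
  · ext x
    rfl
  · ext x
    simp [algebraMap_twist]
    rfl
  · ext x
    show relFrob p R C (x ⊗ₜ 1) = x ^ p
    rw [Groth.Agent.Lib.Helper16.RelFrob.relFrob_tmul]
    simp
  · ext x
    show relFrob p R C (1 ⊗ₜ x) = _
    rw [Groth.Agent.Lib.Helper16.RelFrob.relFrob_tmul]
    simp
    rfl

/-- The "Frobenius retraction" `A[x]/(x^p - a) → A`, `∑ cᵢ xⁱ ↦ ∑ cᵢ^p aⁱ`. -/
noncomputable def rootRetract (p : ℕ) [Fact p.Prime] (A : Type u) [CommRing A] [CharP A p] (a : A) :
    RootRing p A a →+* A :=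
  AdjoinRoot.lift (frobenius A p) a (by simp [frobenius_def])

theorem of_comp_rootRetract [Fact p.Prime] (A : Type u) [CommRing A] [CharP A p] (a : A)
    [CharP (RootRing p A a) p] :
    (AdjoinRoot.of (X ^ p - C a : A[X])).comp (rootRetract p A a) = frobenius (RootRing p A a) p := by
  have hroot : (AdjoinRoot.root (X ^ p - C a : A[X])) ^ p = AdjoinRoot.of (X ^ p - C a : A[X]) a := by
    have := AdjoinRoot.eval₂_root (X ^ p - C a : A[X])
    simpa [sub_eq_zero] using this
  apply AdjoinRoot.ringHom_ext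
  · ext x
    simp [rootRetract, frobenius_def]
  · simp [rootRetract, frobenius_def, hroot]

/-- One step of étale descent along `A → A[x]/(x^p - a)`. -/
theorem exists_etale_descent_one (hp : p.Prime) {A : CommRingCat.{u}} (hA : (p : A) = 0) (a : A)
    {D : CommRingCat.{u}} [Nontrivial D] (γ : CommRingCat.of (RootRing p A a) ⟶ D)
    (hγ : γ.hom.Etale) :
    ∃ (D' : CommRingCat.{u}) (γ' : A ⟶ D') (ψ : D' ⟶ D), γ'.hom.Etale ∧
      IsPushout (CommRingCat.ofHom (AdjoinRoot.of (X ^ p - Polynomial.C a : A[X]))) γ' γ ψ := by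
  haveI : Fact p.Prime := ⟨hp⟩
  haveI : Nontrivial (RootRing p A a) := γ.hom.domain_nontrivial
  haveI : Nontrivial A := (AdjoinRoot.of (X ^ p - Polynomial.C a : A[X])).domain_nontrivial
  haveI : CharP A p := (CharP.charP_iff_prime_eq_zero hp).2 hA
  have hR : (p : RootRing p A a) = 0 := by
    rw [← map_natCast (AdjoinRoot.of (X ^ p - Polynomial.C a : A[X])) p, hA, map_zero]
  haveI : CharP (RootRing p A a) p := (CharP.charP_iff_prime_eq_zero hp).2 hR
  have hC : (p : D) = 0 := by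
    rw [← map_natCast γ.hom p, hR, map_zero]
  haveI : CharP D p := (CharP.charP_iff_prime_eq_zero hp).2 hC
  have hfrob : IsPushout γ (CommRingCat.ofHom (frobenius (RootRing p A a) p))
      (CommRingCat.ofHom (frobenius D p)) γ :=
    isPushout_frobenius_of_etale (R := CommRingCat.of (RootRing p A a)) γ hγ
  let ρ : CommRingCat.of (RootRing p A a) ⟶ A := CommRingCat.ofHom (rootRetract p A a)
  let ι : A ⟶ CommRingCat.of (RootRing p A a) :=
    CommRingCat.ofHom (AdjoinRoot.of (X ^ p - Polynomial.C a : A[X]))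
  have hρι : ρ ≫ ι = CommRingCat.ofHom (frobenius (RootRing p A a) p) :=
    CommRingCat.hom_ext (of_comp_rootRetract A a)
  have hw : ρ ≫ ι ≫ γ = γ ≫ CommRingCat.ofHom (frobenius D p) := by
    rw [← Category.assoc, hρι]
    apply CommRingCat.hom_ext
    apply RingHom.ext
    intro x
    simp [frobenius_def]
  let ψ : pushout ρ γ ⟶ D := pushout.desc (ι ≫ γ) (CommRingCat.ofHom (frobenius D p)) hw
  have h1 : pushout.inl ρ γ ≫ ψ = ι ≫ γ := pushout.inl_desc _ _ _
  have h2 : pushout.inr ρ γ ≫ ψ = CommRingCat.ofHom (frobenius D p) := pushout.inr_desc _ _ _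
  refine ⟨pushout ρ γ, pushout.inl ρ γ, ψ, ?_, ?_⟩
  · exact RingHom.Etale.isStableUnderBaseChange.pushout_inl RingHom.Etale.respectsIso ρ γ hγ
  · refine IsPushout.of_left ?_ h1.symm (IsPushout.of_hasPushout ρ γ)
    rw [hρι, h2]
    exact hfrob.flip

/-- **Étale algebras descend along root towers** in characteristic `p`. -/
theorem exists_etale_descent (hp : p.Prime) : ∀ (n : ℕ) {A B D : CommRingCat.{u}} (φ : A ⟶ B)
    (γ : B ⟶ D), (p : A) = 0 → Nontrivial D → IsRootTowerHom p n φ.hom → γ.hom.Etale →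
    ∃ (D' : CommRingCat.{u}) (γ' : A ⟶ D') (ψ : D' ⟶ D), γ'.hom.Etale ∧ IsPushout φ γ' γ ψ
  | 0, A, B, D, φ, γ, hA, hC, tw, hγ => by
    rw [isRootTowerHom_zero_iff] at tw
    have : IsIso φ := (ConcreteCategory.isIso_iff_bijective _).2 tw
    refine ⟨D, φ ≫ γ, 𝟙 D, ?_, IsPushout.of_horiz_isIso ⟨by simp⟩⟩
    rw [CommRingCat.hom_comp]
    exact RingHom.Etale.stableUnderComposition _ _ (RingHom.Etale.of_bijective tw) hγ
  | n + 1, A, B, D, φ, γ, hA, hC, tw, hγ => by
    rw [isRootTowerHom_succ_iff] at tw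
    obtain ⟨a, χ, hχ, tw'⟩ := tw
    have hφ : φ = CommRingCat.ofHom (AdjoinRoot.of (X ^ p - Polynomial.C a : A[X])) ≫ CommRingCat.ofHom χ :=
      CommRingCat.hom_ext hχ.symm
    have hR : (p : CommRingCat.of (RootRing p A a)) = 0 := by
      show (p : RootRing p A a) = 0
      rw [← map_natCast (AdjoinRoot.of (X ^ p - Polynomial.C a : A[X])) p, hA, map_zero]
    obtain ⟨D₁, γ₁, ψ₁, hγ₁, sq₁⟩ :=
      exists_etale_descent hp n (CommRingCat.ofHom χ) γ hR hC tw' hγ
    have : Nontrivial D₁ := ψ₁.hom.domain_nontrivial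
    obtain ⟨D', γ', ψ', hγ', sq'⟩ := exists_etale_descent_one hp hA a γ₁ hγ₁
    refine ⟨D', γ', ψ' ≫ ψ₁, hγ', ?_⟩
    rw [hφ]
    exact sq'.paste_horiz sq₁

end Groth.Agent.Lib.Helper7.QuietRing

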